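import Mathlib
import Groth.Agent.Henselization.Basic
import Groth.Agent.GRingCompleteLib.Descend
import Groth.Agent.ExcLib.Localization
import Groth.Agent.S2045
import Groth.Agent.S2653

/-!
A henselian local ring is a colimit of henselian G-rings.
-/

set_option autoImplicit false

universe u v

open IsLocalRing

namespace Groth.Agent.HensGColim

/-- A direct limit of henselian local rings with local transition maps is henselian local. -/
theorem henselianLocalRing_directLimit {ι : Type v} [Preorder ι] [Nonempty ι] [IsDirected ι (· ≤ ·)]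
    (G : ι → Type u) [∀ i, CommRing (G i)] [∀ i, HenselianLocalRing (G i)]
    (f : ∀ i j, i ≤ j → G i →+* G j) [DirectedSystem G (fun i j h => f i j h)]
    (hf : ∀ i j (h : i ≤ j), IsLocalHom (f i j h)) :
    ∃ _ : HenselianLocalRing (Ring.DirectLimit G (fun i j h => f i j h)),
      ∀ i, IsLocalHom (Ring.DirectLimit.of G (fun i j h => f i j h) i) := by
  classical
  let L := Ring.DirectLimit G (fun i j h => f i j h)
  let of : ∀ i, G i →+* L := fun i => Ring.DirectLimit.of G (fun i j h => f i j h) i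
  have hof : ∀ i j (h : i ≤ j) (x : G i), of j (f i j h x) = of i x := fun i j h x =>
    Ring.DirectLimit.of_f h x
  have hex : ∀ z : L, ∃ i x, of i x = z := fun z => Ring.DirectLimit.exists_of z
  have hzero : ∀ i x, of i x = 0 → ∃ j, ∃ h : i ≤ j, f i j h x = 0 := fun i x hx =>
    Ring.DirectLimit.of.zero_exact hx
  have hunit : ∀ i x, IsUnit (of i x) → IsUnit x := by
    intro i x hx
    obtain ⟨y, hy⟩ := hx.exists_right_inv
    obtain ⟨j, y, rfl⟩ := hex y
    obtain ⟨k, hik, hjk⟩ := exists_ge_ge i j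
    have h0 : of k (f i k hik x * f j k hjk y - 1) = 0 := by
      rw [map_sub, map_mul, hof, hof, hy, map_one, sub_self]
    obtain ⟨l, hkl, hl⟩ := hzero k _ h0
    rw [map_sub, map_mul, map_one, sub_eq_zero] at hl
    haveI := hf i k hik
    haveI := hf k l hkl
    exact IsLocalHom.map_nonunit x (IsLocalHom.map_nonunit _ (IsUnit.of_mul_eq_one _ hl))
  haveI : Nontrivial L := by
    obtain ⟨i⟩ := ‹Nonempty ι›
    refine ⟨⟨0, 1, fun h01 => not_isUnit_zero (hunit i 0 ?_)⟩⟩
    rw [map_zero, h01]
    exact isUnit_one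
  haveI hloc : IsLocalRing L := by
    refine .of_nonunits_add fun a b ha hb => ?_
    obtain ⟨i, x, rfl⟩ := hex a
    obtain ⟨j, y, rfl⟩ := hex b
    obtain ⟨k, hik, hjk⟩ := exists_ge_ge i j
    rw [← hof i k hik x] at ha ⊢
    rw [← hof j k hjk y] at hb ⊢
    rw [← map_add]
    exact fun h => IsLocalRing.nonunits_add (fun h' => ha (h'.map _)) (fun h' => hb (h'.map _)) (hunit k _ h)
  haveI hlh : ∀ i, IsLocalHom (of i) := fun i => ⟨fun x hx => hunit i x hx⟩
  haveI hhens : HenselianLocalRing L := by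
    refine ⟨fun P hP a₀ h₁ h₂ => ?_⟩
    obtain ⟨i, x, rfl⟩ := hex a₀
    obtain ⟨j, p, hp⟩ := Ring.DirectLimit.Polynomial.exists_of P
    obtain ⟨k, hik, hjk⟩ := exists_ge_ge i j
    have hP' : P = (p.map (f j k hjk)).map (of k) := by
      rw [← hp, Polynomial.map_map]
      congr 1
      exact RingHom.ext fun y => (hof j k hjk y).symm
    obtain ⟨q, hq, -, hqm⟩ := Polynomial.lifts_and_natDegree_eq_and_monic
      (show P ∈ Polynomial.lifts (of k) from (Polynomial.mem_lifts P).2 ⟨_, hP'.symm⟩) hP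
    let a := f i k hik x
    have ha : of k a = of i x := hof i k hik x
    have hev : ∀ r : Polynomial (G k), (r.map (of k)).eval (of i x) = of k (r.eval a) := fun r => by
      rw [← ha, Polynomial.eval_map, Polynomial.eval₂_at_apply]
    obtain ⟨w, hw, hwa⟩ := HenselianLocalRing.is_henselian q hqm a
      (fun hu => h₁ (by rw [← hq, hev]; exact hu.map _))
      (hunit k _ (by rw [← hev, ← Polynomial.derivative_map, hq]; exact h₂))
    refine ⟨of k w, ?_, ?_⟩
    · rw [Polynomial.IsRoot, ← hq, Polynomial.eval_map, Polynomial.eval₂_at_apply, hw.eq_zero, map_zero]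
    · rw [← ha, ← map_sub]
      exact map_nonunit (of k) _ hwa
  exact ⟨hhens, hlh⟩

variable {A : Type u} [CommRing A]

abbrev Z : Type u := ULift.{u} ℤ

theorem isGRing_Z : CAlg.IsGRing Z.{u} := by
  haveI : IsDomain Z.{u} := (ULift.ringEquiv : ULift.{u} ℤ ≃+* ℤ).toMulEquiv.isDomain
  haveI : IsPrincipalIdealRing Z.{u} :=
    IsPrincipalIdealRing.of_surjective (ULift.ringEquiv : ULift.{u} ℤ ≃+* ℤ).symm.toRingHom
      (ULift.ringEquiv : ULift.{u} ℤ ≃+* ℤ).symm.surjective
  haveI : CharZero Z.{u} := charZero_of_injective_ringHom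
    (f := (ULift.ringEquiv : ULift.{u} ℤ ≃+* ℤ).symm.toRingHom) (ULift.ringEquiv : ULift.{u} ℤ ≃+* ℤ).symm.injective
  exact (S2653.result Z.{u}).2.2.1

@[reducible] def algebraZ : Algebra Z.{u} A :=
  ((Int.castRingHom A).comp (ULift.ringEquiv : ULift.{u} ℤ ≃+* ℤ).toRingHom).toAlgebra

end Groth.Agent.HensGColim
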