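import Groth.Agent.HensGColim.Basic

/-!
A henselian local ring is a colimit of henselian G-rings.
-/

set_option autoImplicit false

universe u

open IsLocalRing

namespace Groth.Agent.HensGColim

noncomputable section

variable (A : Type u) [CommRing A] [HenselianLocalRing A]

/-- The subring generated by a finite set. -/
def sub (s : Finset A) : @Subalgebra Z.{u} A _ _ algebraZ :=
  letI := algebraZ (A := A); Algebra.adjoin Z.{u} (s : Set A)

/-- The prime of the subring. -/
def pr (s : Finset A) : Ideal ↥(sub A s) :=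
  letI := algebraZ (A := A); (maximalIdeal A).comap (sub A s).val.toRingHom

instance (s : Finset A) : (pr A s).IsPrime :=
  letI := algebraZ (A := A); Ideal.IsPrime.comap (sub A s).val.toRingHom

abbrev stage₀ (s : Finset A) : Type u := Localization.AtPrime (pr A s)

abbrev stage (s : Finset A) : Type u := Henselization.HenselizationRing (stage₀ A s)

theorem isGRing_stage (s : Finset A) : CAlg.IsGRing (stage A s) := by
  letI := algebraZ (A := A)
  haveI : Algebra.FiniteType Z.{u} ↥(sub A s) :=
    (Subalgebra.fg_iff_finiteType _).1 (Subalgebra.fg_adjoin_finset s)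
  have h1 := GRingCompleteLib.isGRing_of_finiteType Z.{u} isGRing_Z ↥(sub A s)
  have h2 : CAlg.IsGRing (stage₀ A s) := ExcLib.isGRing_of_isLocalization (pr A s).primeCompl h1
  haveI := h2.1
  exact S2045.result h2

/-- The map from the localised subring to `A`. -/
def e₀ (s : Finset A) : stage₀ A s →+* A :=
  IsLocalization.lift (M := (pr A s).primeCompl)
    (g := (letI := algebraZ (A := A); (sub A s).val.toRingHom : ↥(sub A s) →+* A))
    (fun y => by
      by_contra h
      exact y.2 (by exact h))

theorem e₀_algebraMap (s : Finset A) (x : ↥(sub A s)) : e₀ A s (algebraMap _ _ x) = (x : A) :=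
  IsLocalization.lift_eq _ _

instance isLocalHom_e₀ (s : Finset A) : IsLocalHom (e₀ A s) := by
  refine ⟨fun x hx => ?_⟩
  obtain ⟨a, b, rfl⟩ := IsLocalization.exists_mk'_eq (pr A s).primeCompl x
  rw [IsLocalization.AtPrime.isUnit_mk'_iff (stage₀ A s) (pr A s)]
  intro ha
  have h1 := congrArg (e₀ A s) (IsLocalization.mk'_spec (stage₀ A s) a b)
  rw [map_mul, e₀_algebraMap, e₀_algebraMap] at h1
  have hb : IsUnit ((b : ↥(sub A s)) : A) := by
    by_contra hb
    exact b.2 hb
  exact ha (show IsUnit ((a : ↥(sub A s)) : A) from h1 ▸ hx.mul hb)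

theorem isLocalHom_of_comp (s : Finset A) {T : Type u} [CommRing T] [IsLocalRing T] (g : stage A s →+* T)
    (f : stage₀ A s →+* T) [IsLocalHom f] (hg : g.comp (algebraMap _ _) = f) : IsLocalHom g := by
  refine ((local_hom_TFAE g).out 0 2 rfl rfl).mpr ?_
  rw [← Henselization.map_maximalIdeal, Ideal.map_map, hg]
  exact ((local_hom_TFAE f).out 0 2 rfl rfl).mp inferInstance

theorem exists_desc (s : Finset A) {T : Type u} [CommRing T] [HenselianLocalRing T] (f : stage₀ A s →+* T)
    (hf : IsLocalHom f) : ∃! g : stage A s →+* T, g.comp (algebraMap _ _) = f :=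
  (inferInstance : Hensel.IsHenselization (stage₀ A s) (stage A s)).universal T f hf

/-- The map from a stage to `A`. -/
def e (s : Finset A) : stage A s →+* A := (exists_desc A s (e₀ A s) inferInstance).choose

theorem e_comp (s : Finset A) : (e A s).comp (algebraMap _ _) = e₀ A s :=
  (exists_desc A s (e₀ A s) inferInstance).choose_spec.1

instance (s : Finset A) : IsLocalHom (e A s) := isLocalHom_of_comp A s (e A s) (e₀ A s) (e_comp A s)

theorem sub_le {s t : Finset A} (h : s ≤ t) : sub A s ≤ sub A t :=
  letI := algebraZ (A := A); Algebra.adjoin_mono (Finset.coe_subset.2 h)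

/-- The inclusion of subrings. -/
def incl {s t : Finset A} (h : s ≤ t) : ↥(sub A s) →+* ↥(sub A t) :=
  letI := algebraZ (A := A); (Subalgebra.inclusion (sub_le A h)).toRingHom

/-- Transition on localised subrings. -/
def t₀ {s t : Finset A} (h : s ≤ t) : stage₀ A s →+* stage₀ A t :=
  Localization.localRingHom (pr A s) (pr A t) (incl A h) rfl

instance {s t : Finset A} (h : s ≤ t) : IsLocalHom (t₀ A h) :=
  Localization.isLocalHom_localRingHom _ _ _ _

/-- Transition maps. -/
def tr (s t : Finset A) (h : s ≤ t) : stage A s →+* stage A t :=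
  (exists_desc A s ((algebraMap (stage₀ A t) (stage A t)).comp (t₀ A h))
    (RingHom.isLocalHom_comp _ _)).choose

theorem tr_comp (s t : Finset A) (h : s ≤ t) :
    (tr A s t h).comp (algebraMap _ _) = (algebraMap (stage₀ A t) (stage A t)).comp (t₀ A h) :=
  (exists_desc A s ((algebraMap (stage₀ A t) (stage A t)).comp (t₀ A h))
    (RingHom.isLocalHom_comp _ _)).choose_spec.1

instance isLocalHom_tr (s t : Finset A) (h : s ≤ t) : IsLocalHom (tr A s t h) :=
  haveI := RingHom.isLocalHom_comp (algebraMap (stage₀ A t) (stage A t)) (t₀ A h)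
  isLocalHom_of_comp A s _ _ (tr_comp A s t h)

theorem hom_ext {s : Finset A} {T : Type u} [CommRing T] [HenselianLocalRing T] (g g' : stage A s →+* T)
    [IsLocalHom g] (h : ∀ x : ↥(sub A s), g (algebraMap (stage₀ A s) _ (algebraMap _ _ x)) =
      g' (algebraMap (stage₀ A s) _ (algebraMap _ _ x))) : g = g' := by
  have heq : g'.comp (algebraMap (stage₀ A s) (stage A s)) = g.comp (algebraMap _ _) :=
    IsLocalization.ringHom_ext (pr A s).primeCompl (RingHom.ext fun x => (h x).symm)
  exact (exists_desc A s (g.comp (algebraMap _ _)) (RingHom.isLocalHom_comp _ _)).unique rfl heq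

theorem tr_algebraMap (s t : Finset A) (h : s ≤ t) (x : ↥(sub A s)) :
    tr A s t h (algebraMap (stage₀ A s) _ (algebraMap _ _ x)) =
      algebraMap (stage₀ A t) _ (algebraMap _ _ (incl A h x)) := by
  rw [← RingHom.comp_apply (tr A s t h), tr_comp]
  exact congrArg (algebraMap (stage₀ A t) (stage A t)) (Localization.localRingHom_to_map (pr A s) (pr A t) (incl A h) rfl x)

instance directedSystem : DirectedSystem (stage A) (fun s t h => tr A s t h) where
  map_self s x := by
    refine RingHom.congr_fun (hom_ext A (tr A s s le_rfl) (RingHom.id _) fun y => ?_) x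
    rw [tr_algebraMap]
    exact congrArg _ (congrArg _ (Subtype.ext rfl))
  map_map r t s h h' x := by
    haveI := RingHom.isLocalHom_comp (tr A t r h') (tr A s t h)
    refine RingHom.congr_fun (hom_ext A ((tr A t r h').comp (tr A s t h)) (tr A s r (h.trans h')) fun y => ?_) x
    rw [RingHom.comp_apply, tr_algebraMap, tr_algebraMap, tr_algebraMap]
    exact congrArg _ (congrArg _ (Subtype.ext rfl))

theorem e_algebraMap (s : Finset A) (x : ↥(sub A s)) :
    e A s (algebraMap (stage₀ A s) _ (algebraMap _ _ x)) = (x : A) := by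
  rw [← RingHom.comp_apply (e A s), e_comp, e₀_algebraMap]

theorem e_tr (s t : Finset A) (h : s ≤ t) : (e A t).comp (tr A s t h) = e A s := by
  haveI := RingHom.isLocalHom_comp (e A t) (tr A s t h)
  refine hom_ext A _ _ fun y => ?_
  rw [RingHom.comp_apply, tr_algebraMap, e_algebraMap, e_algebraMap]
  rfl

theorem exists_tr_eq_zero (s : Finset A) (x : stage A s) (hx : e A s x = 0) :
    ∃ t, ∃ h : s ≤ t, tr A s t h x = 0 := by
  classical
  obtain ⟨hL, hof⟩ := henselianLocalRing_directLimit (stage A) (tr A) (fun s t h => isLocalHom_tr A s t h)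
  haveI := hL
  let of : ∀ s, stage A s →+* Ring.DirectLimit (stage A) (fun s t h => tr A s t h) :=
    fun s => Ring.DirectLimit.of (stage A) (fun s t h => tr A s t h) s
  let pt : ∀ (s : Finset A), ↥(sub A s) → Ring.DirectLimit (stage A) (fun s t h => tr A s t h) :=
    fun s y => of s (algebraMap (stage₀ A s) _ (algebraMap _ _ y))
  have hpt : ∀ (s t : Finset A) (h : s ≤ t) (y : ↥(sub A s)), pt t (incl A h y) = pt s y := fun s t h y => by
    show of t _ = of s _
    rw [← tr_algebraMap]
    exact Ring.DirectLimit.of_f h _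
  have hmem : ∀ a : A, a ∈ sub A {a} := fun a =>
    letI := algebraZ (A := A); Algebra.subset_adjoin (by simp)
  have hany : ∀ (t : Finset A) (a : A) (ha : a ∈ sub A t), pt t ⟨a, ha⟩ = pt {a} ⟨a, hmem a⟩ := by
    intro t a ha
    rw [← hpt t (t ∪ {a}) Finset.subset_union_left, ← hpt {a} (t ∪ {a}) Finset.subset_union_right]
    rfl
  let ψ : A →+* Ring.DirectLimit (stage A) (fun s t h => tr A s t h) :=
    { toFun := fun a => pt {a} ⟨a, hmem a⟩
      map_one' := by
        rw [← hany {1} 1 (one_mem _)]
        show of _ (algebraMap _ _ (algebraMap _ _ (1 : ↥(sub A {1})))) = 1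
        rw [map_one, map_one, map_one]
      map_mul' := fun a b => by
        have ha : a ∈ sub A {a, b} := letI := algebraZ (A := A); Algebra.subset_adjoin (by simp)
        have hb : b ∈ sub A {a, b} := letI := algebraZ (A := A); Algebra.subset_adjoin (by simp)
        rw [← hany {a, b} a ha, ← hany {a, b} b hb, ← hany {a, b} (a * b) (mul_mem ha hb)]
        show of _ (algebraMap _ _ (algebraMap _ _ ((⟨a, ha⟩ : ↥(sub A {a, b})) * ⟨b, hb⟩))) = _
        rw [map_mul, map_mul, map_mul]
      map_zero' := by
        rw [← hany {0} 0 (zero_mem _)]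
        show of _ (algebraMap _ _ (algebraMap _ _ (0 : ↥(sub A {0})))) = 0
        rw [map_zero, map_zero, map_zero]
      map_add' := fun a b => by
        have ha : a ∈ sub A {a, b} := letI := algebraZ (A := A); Algebra.subset_adjoin (by simp)
        have hb : b ∈ sub A {a, b} := letI := algebraZ (A := A); Algebra.subset_adjoin (by simp)
        rw [← hany {a, b} a ha, ← hany {a, b} b hb, ← hany {a, b} (a + b) (add_mem ha hb)]
        show of _ (algebraMap _ _ (algebraMap _ _ ((⟨a, ha⟩ : ↥(sub A {a, b})) + ⟨b, hb⟩))) = _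
        rw [map_add, map_add, map_add] }
  haveI : IsLocalHom (of s) := hof s
  have hψ : ψ.comp (e A s) = of s := (hom_ext A (of s) (ψ.comp (e A s)) fun y => by
    rw [RingHom.comp_apply, e_algebraMap]
    exact hany s _ y.2).symm
  exact Ring.DirectLimit.of.zero_exact (show of s x = 0 by rw [← hψ, RingHom.comp_apply, hx, map_zero])

theorem exists_colimit :
    ∃ (ι : Type u) (_ : Preorder ι) (_ : IsDirectedOrder ι) (_ : Nonempty ι) (G : ι → Type u)
      (_ : ∀ i, CommRing (G i)) (f : ∀ i j : ι, i ≤ j → (G i →+* G j))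
      (_ : DirectedSystem G (fun i j h => f i j h)),
      (∀ i, HenselianLocalRing (G i) ∧ CAlg.IsGRing (G i)) ∧
      (∀ (i j : ι) (h : i ≤ j), IsLocalHom (f i j h)) ∧
      Nonempty (A ≃+* DirectLimit G f) := by
  classical
  refine ⟨Finset A, inferInstance, inferInstance, inferInstance, stage A, inferInstance, tr A,
    directedSystem A, fun s => ⟨inferInstance, isGRing_stage A s⟩, fun s t h => isLocalHom_tr A s t h, ?_⟩
  let G : DirectLimit (stage A) (tr A) →+* A :=
    DirectLimit.Ring.lift (stage A) (tr A) A (fun s => e A s)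
      fun s t h x => RingHom.congr_fun (e_tr A s t h) x
  have hG : Function.Bijective G := by
    constructor
    · rw [injective_iff_map_eq_zero]
      intro z hz
      obtain ⟨s, x, rfl⟩ := DirectLimit.exists_eq_mk _ z
      obtain ⟨t, h, ht⟩ := exists_tr_eq_zero A s x hz
      show DirectLimit.Ring.of (stage A) (tr A) s x = 0
      rw [← DirectLimit.Ring.of_f h, ht, map_zero]
    · intro a
      have hmem : a ∈ sub A {a} := letI := algebraZ (A := A); Algebra.subset_adjoin (by simp)
      exact ⟨DirectLimit.Ring.of (stage A) (tr A) {a}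
        (algebraMap (stage₀ A {a}) _ (algebraMap _ _ (⟨a, hmem⟩ : ↥(sub A {a})))), e_algebraMap A {a} ⟨a, hmem⟩⟩
  exact ⟨(RingEquiv.ofBijective G hG).symm⟩

end

end Groth.Agent.HensGColim
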